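import Mathlib
import Groth.Prelude.Def_CAlg
import Groth.Agent.Depth.CM
import Groth.Agent.CAlgReg.Basic

/-!
Serre's condition `(S₁)` and reducedness.
-/

namespace Groth.Agent.CAlgSerre

universe u

open IsLocalRing LocCoh

theorem comap_max {R : Type u} [CommRing R] (p : Ideal R) [p.IsPrime] :
    (maximalIdeal (Localization.AtPrime p)).comap (algebraMap R (Localization.AtPrime p)) = p :=
  IsLocalization.AtPrime.comap_maximalIdeal _ p

variable {R M : Type u} [CommRing R] [IsNoetherianRing R] [AddCommGroup M] [Module R M] [Module.Finite R M]

theorem depth_eq_zero_iff (p : Ideal R) [p.IsPrime] [Nontrivial (LocalizedModule p.primeCompl M)] :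
    depth (Localization.AtPrime p) (LocalizedModule p.primeCompl M) = 0 ↔ p ∈ associatedPrimes R M := by
  haveI : IsNoetherianRing (Localization.AtPrime p) :=
    IsLocalization.isNoetherianRing p.primeCompl _ inferInstance
  rw [Depth.depth_eq_zero_iff, ← Module.associatedPrimes.preimage_comap_associatedPrimes_eq_associatedPrimes_of_isLocalizedModule
    p.primeCompl (R' := Localization.AtPrime p) (LocalizedModule.mkLinearMap p.primeCompl M), Set.mem_preimage,
    comap_max]

omit [IsNoetherianRing R] [Module.Finite R M] in
theorem mem_support_localized {p : Ideal R} [p.IsPrime] {q : PrimeSpectrum R} (hq : q ∈ Module.support R M)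
    (hle : q.asIdeal ≤ p) (P : PrimeSpectrum (Localization.AtPrime p))
    (hP : P.asIdeal.comap (algebraMap R _) = q.asIdeal) :
    P ∈ Module.support (Localization.AtPrime p) (LocalizedModule p.primeCompl M) := by
  rw [Module.mem_support_iff_exists_annihilator] at hq ⊢
  obtain ⟨x, hx⟩ := hq
  refine ⟨LocalizedModule.mkLinearMap p.primeCompl M x, fun a ha => ?_⟩
  obtain ⟨b, s, rfl⟩ := IsLocalization.exists_mk'_eq p.primeCompl a
  rw [Submodule.mem_annihilator_span_singleton] at ha
  have h1 : algebraMap R (Localization.AtPrime p) b • LocalizedModule.mkLinearMap p.primeCompl M x = 0 := by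
    rw [← IsLocalization.mk'_spec (Localization.AtPrime p) b s, mul_comm, mul_smul, ha, smul_zero]
  rw [algebraMap_smul, ← map_smul, LocalizedModule.mkLinearMap_apply,
    ← LocalizedModule.zero_mk (1 : p.primeCompl), LocalizedModule.mk_eq] at h1
  obtain ⟨u, hu⟩ := h1
  simp only [one_smul, smul_zero] at hu
  have h2 : (u : R) * b ∈ q.asIdeal := hx (by
    rw [Submodule.mem_annihilator_span_singleton, mul_smul]; exact hu)
  have hb : b ∈ q.asIdeal := (q.2.mem_or_mem h2).resolve_left fun h => u.2 (hle h)
  rw [← hP, Ideal.mem_comap] at hb
  exact IsLocalization.mk'_mem_iff.2 hb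

omit [IsNoetherianRing R] [Module.Finite R M] in
theorem comap_mem_support {p : Ideal R} [p.IsPrime] (P : PrimeSpectrum (Localization.AtPrime p))
    (hP : P ∈ Module.support (Localization.AtPrime p) (LocalizedModule p.primeCompl M)) :
    (⟨P.asIdeal.comap (algebraMap R _), inferInstance⟩ : PrimeSpectrum R) ∈ Module.support R M := by
  rw [Module.mem_support_iff_exists_annihilator] at hP ⊢
  obtain ⟨z, hz⟩ := hP
  induction z using LocalizedModule.induction_on with
  | h x s =>
    refine ⟨x, fun a ha => ?_⟩
    rw [Submodule.mem_annihilator_span_singleton] at ha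
    rw [Ideal.mem_comap]
    refine hz ?_
    rw [Submodule.mem_annihilator_span_singleton, algebraMap_smul, LocalizedModule.smul'_mk, ha,
      LocalizedModule.zero_mk]

/-- No embedded primes if and only if `(S₁)`. -/
theorem hasSk_one_iff : HasSk 1 R M ↔
    ∀ p ∈ associatedPrimes R M, p ∈ (Module.annihilator R M).minimalPrimes := by
  constructor
  · intro h p hp
    haveI := hp.isPrime
    have hsupp : (⟨p, inferInstance⟩ : PrimeSpectrum R) ∈ Module.support R M :=
      Depth.mem_support_of_mem_associatedPrimes hp
    haveI hnt : Nontrivial (LocalizedModule p.primeCompl M) := Module.mem_support_iff.1 hsupp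
    haveI : IsNoetherianRing (Localization.AtPrime p) :=
      IsLocalization.isNoetherianRing p.primeCompl _ inferInstance
    have h0 := h p
    rw [(depth_eq_zero_iff p).2 hp] at h0
    have hdim : Module.supportDim (Localization.AtPrime p) (LocalizedModule p.primeCompl M) ≤ 0 := by
      rcases min_le_iff.1 h0 with h1 | h1
      · exact absurd h1 (by decide)
      · exact h1
    refine ⟨⟨inferInstance, by
      have := Module.mem_support_iff_of_finite.1 hsupp
      exact this⟩, fun q hq hqp => ?_⟩
    by_contra hne
    haveI := hq.1
    have hlt : q < p := lt_of_le_of_ne hqp fun e => hne e.ge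
    have hqs : (⟨q, hq.1⟩ : PrimeSpectrum R) ∈ Module.support R M := Module.mem_support_iff_of_finite.2 hq.2
    have hdq : Disjoint (p.primeCompl : Set R) q := Set.disjoint_left.2 fun a ha ha' => ha (hqp ha')
    let P0 : PrimeSpectrum (Localization.AtPrime p) :=
      ⟨q.map (algebraMap R _), IsLocalization.isPrime_of_isPrime_disjoint p.primeCompl _ q hq.1 hdq⟩
    have hP0 : P0 ∈ Module.support (Localization.AtPrime p) (LocalizedModule p.primeCompl M) :=
      mem_support_localized hqs hqp P0
        (IsLocalization.under_map_of_isPrime_disjoint p.primeCompl _ hq.1 hdq)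
    have hP1 : (⟨maximalIdeal (Localization.AtPrime p), inferInstance⟩ : PrimeSpectrum _) ∈
        Module.support (Localization.AtPrime p) (LocalizedModule p.primeCompl M) :=
      mem_support_localized hsupp le_rfl _ (IsLocalization.AtPrime.comap_maximalIdeal _ p)
    have hlt' : (⟨P0, hP0⟩ : Module.support (Localization.AtPrime p) (LocalizedModule p.primeCompl M)) <
        ⟨_, hP1⟩ := by
      refine Subtype.mk_lt_mk.2 (lt_of_le_of_ne (le_maximalIdeal P0.2.ne_top) fun e => hlt.ne ?_)
      have := congrArg (fun x => x.asIdeal.comap (algebraMap R (Localization.AtPrime p))) e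
      simp only [P0] at this
      rwa [comap_max,
        show (q.map (algebraMap R (Localization.AtPrime p))).comap (algebraMap R _) = q from
          IsLocalization.under_map_of_isPrime_disjoint p.primeCompl _ hq.1 hdq] at this
    let l : LTSeries (Module.support (Localization.AtPrime p) (LocalizedModule p.primeCompl M)) :=
      (RelSeries.singleton _ ⟨P0, hP0⟩).snoc ⟨_, hP1⟩ (by simpa using hlt')
    exact absurd ((Order.LTSeries.length_le_krullDim l).trans hdim) (by simp [l, RelSeries.snoc])
  · intro h p _
    rcases subsingleton_or_nontrivial (LocalizedModule p.primeCompl M) with hs | hnt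
    · rw [Module.supportDim_eq_bot_of_subsingleton]
      simp
    haveI : IsNoetherianRing (Localization.AtPrime p) :=
      IsLocalization.isNoetherianRing p.primeCompl _ inferInstance
    by_cases h0 : depth (Localization.AtPrime p) (LocalizedModule p.primeCompl M) = 0
    · have hmin := h p ((depth_eq_zero_iff p).1 h0)
      refine (min_le_right _ _).trans ?_
      rw [h0]
      suffices Subsingleton (Module.support (Localization.AtPrime p) (LocalizedModule p.primeCompl M)) from
        Order.krullDim_nonpos_of_subsingleton
      refine ⟨fun a b => ?_⟩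
      suffices ∀ c : Module.support (Localization.AtPrime p) (LocalizedModule p.primeCompl M),
          c.1.asIdeal = maximalIdeal _ from Subtype.ext (PrimeSpectrum.ext ((this a).trans (this b).symm))
      intro c
      have hc := Module.mem_support_iff_of_finite.1 (comap_mem_support c.1 c.2)
      have hle : c.1.asIdeal.comap (algebraMap R _) ≤ p := by
        conv_rhs => rw [← comap_max p]
        exact Ideal.comap_mono (le_maximalIdeal c.1.2.ne_top)
      have heq := le_antisymm hle (hmin.2 ⟨inferInstance, hc⟩ hle)
      rw [← IsLocalization.map_under p.primeCompl (Localization.AtPrime p) c.1.asIdeal]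
      show Ideal.map _ (c.1.asIdeal.comap (algebraMap R _)) = _
      rw [heq, Localization.AtPrime.map_eq_maximalIdeal]
    · refine (min_le_left _ _).trans ?_
      rw [← Ne, ← Order.one_le_iff_ne_zero] at h0
      exact_mod_cast h0

end Groth.Agent.CAlgSerre
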