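import Mathlib
import Groth.Agent.CAlgSerre.Basic

/-!
`(R₀)` and `(S₁)` characterize reduced Noetherian rings.
-/

namespace Groth.Agent.CAlgSerre

universe u

open IsLocalRing LocCoh

variable {R : Type u} [CommRing R] [IsNoetherianRing R]

omit [IsNoetherianRing R] in
theorem annihilator_self : Module.annihilator R R = ⊥ :=
  le_bot_iff.1 fun x hx => by simpa using (Module.mem_annihilator.1 hx) 1

theorem hasSk_one_ring_iff : HasSk 1 R R ↔ ∀ p ∈ associatedPrimes R R, p ∈ minimalPrimes R := by
  rw [hasSk_one_iff, annihilator_self]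

omit [IsNoetherianRing R] in
theorem height_eq_zero_of_mem_minimalPrimes {p : Ideal R} [p.IsPrime] (hp : p ∈ minimalPrimes R) :
    p.height = 0 :=
  Ideal.height_eq_zero_iff.2 hp

theorem isField_of_regular_dim_zero (L : Type u) [CommRing L] [IsRegularLocalRing L]
    (h : ringKrullDim L = 0) : IsField L := by
  haveI : IsDomain L := CAlgReg.isDomain (R := L)
  haveI : Ring.KrullDimLE 0 L := (Ring.krullDimLE_iff (n := 0)).2 (by simp [h])
  exact Ring.KrullDimLE.isField_of_isDomain

theorem isReduced_iff : IsReduced R ↔ HasRk 0 R ∧ HasSk 1 R R := by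
  constructor
  · intro _
    refine ⟨fun p _ hp => ?_, hasSk_one_ring_iff.2 fun p hp => ?_⟩
    · haveI : IsNoetherianRing (Localization.AtPrime p) :=
        IsLocalization.isNoetherianRing p.primeCompl _ inferInstance
      haveI : IsReduced (Localization.AtPrime p) := isReduced_localizationPreserves p.primeCompl _ inferInstance
      have hd : ringKrullDim (Localization.AtPrime p) = 0 := by
        rw [IsLocalization.AtPrime.ringKrullDim_eq_height p, show p.height = 0 from le_antisymm hp bot_le]
        rfl
      haveI : Ring.KrullDimLE 0 (Localization.AtPrime p) := (Ring.krullDimLE_iff (n := 0)).2 (by simp [hd])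
      have hf : IsField (Localization.AtPrime p) := by
        rw [isField_iff_maximalIdeal_eq, ← Ring.KrullDimLE.nilradical_eq_maximalIdeal, nilradical_eq_zero]
        rfl
      letI := hf.toField
      infer_instance
    · obtain ⟨hprime, x, hx⟩ := isAssociatedPrime_iff.1 hp
      haveI := hprime
      have hx0 : x ≠ 0 := fun h => by
        rw [h] at hx
        exact hprime.ne_top (hx.trans (eq_top_iff.2 fun a _ => by simp [Submodule.mem_colon_singleton]))
      obtain ⟨q, hq, hxq⟩ : ∃ q ∈ minimalPrimes R, x ∉ q := by
        by_contra! h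
        refine hx0 (IsReduced.eq_zero x (mem_nilradical.1 ?_))
        rw [nilradical_eq_sInf, Submodule.mem_sInf]
        intro (P : Ideal R) (hP : Ideal.IsPrime P)
        obtain ⟨q, hq, hqP⟩ := Ideal.exists_minimalPrimes_le (I := ⊥) (J := P) bot_le
        exact hqP (h q hq)
      haveI := hq.1.1
      have hpq : p ≤ q := fun a ha => by
        rw [hx, Submodule.mem_colon_singleton] at ha
        exact (hq.1.1.mem_or_mem (show a * x ∈ q by simp at ha; rw [ha]; exact zero_mem _)).resolve_right hxq
      exact le_antisymm hpq (hq.2 ⟨hprime, bot_le⟩ hpq) ▸ hq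
  · rintro ⟨h0, h1⟩
    refine ⟨fun x hx => ?_⟩
    by_contra hx0
    obtain ⟨p, hp, hle⟩ := exists_le_isAssociatedPrime_of_isNoetherianRing R x hx0
    haveI := hp.isPrime
    have hmin := hasSk_one_ring_iff.1 h1 p hp
    haveI := h0 p (by rw [height_eq_zero_of_mem_minimalPrimes hmin]; rfl)
    have hf : IsField (Localization.AtPrime p) := isField_of_regular_dim_zero _ (by
      rw [IsLocalization.AtPrime.ringKrullDim_eq_height p, height_eq_zero_of_mem_minimalPrimes hmin]; rfl)
    letI := hf.toField
    have : algebraMap R (Localization.AtPrime p) x = 0 := (hx.map _).eq_zero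
    obtain ⟨s, hs⟩ := (IsLocalization.map_eq_zero_iff p.primeCompl _ _).1 this
    exact s.2 (hle (by simp [Submodule.mem_colon_singleton, hs]))

end Groth.Agent.CAlgSerre
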