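import Mathlib
import Groth.Agent.CAlgSerre.Reduced

/-!
Serre's normality criterion.
-/

namespace Groth.Agent.CAlgSerre

universe u

open IsLocalRing LocCoh Polynomial

variable {R : Type u} [CommRing R]

theorem hasRk_mono {j k : ℕ} (h : j ≤ k) (hR : HasRk k R) : HasRk j R :=
  fun p _ hp => hR p (hp.trans (by exact_mod_cast h))

theorem hasSk_mono {M : Type u} [AddCommGroup M] [Module R M] {j k : ℕ} (h : j ≤ k) (hR : HasSk k R M) :
    HasSk j R M :=
  fun p _ => (min_le_min (by exact_mod_cast h) le_rfl).trans (hR p)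

theorem dvd_of_scaleRoots {L : Type u} [CommRing L] [IsDomain L] [IsIntegrallyClosed L] {a b : L}
    (hb : b ≠ 0) {P : L[X]} (hP : P.Monic) (h : (P.scaleRoots b).eval a = 0) : b ∣ a := by
  let K := FractionRing L
  have hb' : algebraMap L K b ≠ 0 := fun h => hb (IsFractionRing.injective L K (h.trans (map_zero _).symm))
  have hint : IsIntegral L (algebraMap L K a / algebraMap L K b) := by
    refine ⟨P, hP, ?_⟩
    have h1 := congrArg (algebraMap L K) h
    rw [← Polynomial.eval₂_at_apply, map_zero,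
      show algebraMap L K a = algebraMap L K b * (algebraMap L K a / algebraMap L K b) from
        (mul_div_cancel₀ _ hb').symm,
      scaleRoots_eval₂_mul] at h1
    exact (mul_eq_zero.1 h1).resolve_left (pow_ne_zero _ hb')
  obtain ⟨c, hc⟩ := IsIntegrallyClosed.isIntegral_iff.1 hint
  exact ⟨c, IsFractionRing.injective L K (by rw [map_mul, hc, mul_div_cancel₀ _ hb'])⟩

theorem isIntegrallyClosed_of_regular_dim_le_one (L : Type u) [CommRing L] [IsRegularLocalRing L]
    [IsDomain L] (h : ringKrullDim L ≤ 1) : IsIntegrallyClosed L := by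
  haveI : IsPrincipalIdealRing L := by
    by_cases hf : IsField L
    · letI := hf.toField; infer_instance
    have h1 : (maximalIdeal L).spanFinrank ≤ 1 := by
      rw [CAlgReg.dim_eq_spanFinrank] at h
      exact_mod_cast h
    obtain ⟨s, hcard, hs⟩ := Submodule.FG.exists_span_finset_card_eq_spanFinrank
      (maximalIdeal L).fg_of_isNoetherianRing
    have hp : (maximalIdeal L).IsPrincipal := by
      rcases Nat.le_one_iff_eq_zero_or_eq_one.1 (hcard ▸ h1) with h0 | h0
      · rw [Finset.card_eq_zero] at h0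
        refine ⟨⟨0, ?_⟩⟩
        rw [← hs, h0]
        simp
      · obtain ⟨x, rfl⟩ := Finset.card_eq_one.1 h0
        exact ⟨⟨x, by rw [← hs]; simp⟩⟩
    have hd : IsDiscreteValuationRing L := ((IsDiscreteValuationRing.TFAE L hf).out 4 0).1 hp
    exact hd.toIsPrincipalIdealRing
  infer_instance

variable [IsNoetherianRing R]

theorem height_le_one_of_mem_associatedPrimes (h2 : HasSk 2 R R) {b : R} (hb : IsSMulRegular R b)
    {q : Ideal R} [q.IsPrime] (hbq : b ∈ q) {y : R} (hyb : ∀ s, s ∉ q → s * y ∉ Ideal.span {b})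
    (hy : ∀ r ∈ q, r * y ∈ Ideal.span {b}) : q.height ≤ 1 := by
  let Rq := Localization.AtPrime q
  haveI : IsNoetherianRing Rq := IsLocalization.isNoetherianRing q.primeCompl _ inferInstance
  by_contra hh
  have hlt : (1 : ℕ∞) < q.height := not_le.1 hh
  have h2'' : (2 : ℕ∞) ≤ q.height := by
    rw [show (2 : ℕ∞) = 1 + 1 from rfl]
    exact Order.add_one_le_of_lt hlt
  have h2' : ((2 : ℕ) : WithBot ℕ∞) ≤ (q.height : WithBot ℕ∞) := WithBot.coe_le_coe.2 h2''
  have hdep := h2 q
  rw [Depth.supportDim_localizedSelf, min_eq_left h2', Depth.depth_congr (Depth.localizedSelfEquiv q.primeCompl)] at hdep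
  have hdep' : (2 : ℕ∞) ≤ depth Rq Rq := WithBot.coe_le_coe.1 hdep
  have hbreg : IsSMulRegular Rq (algebraMap R Rq b) := by
    intro z w hzw
    obtain ⟨c, s, rfl⟩ := IsLocalization.exists_mk'_eq q.primeCompl z
    obtain ⟨d, t, rfl⟩ := IsLocalization.exists_mk'_eq q.primeCompl w
    simp only [smul_eq_mul, IsLocalization.mul_mk'_eq_mk'_of_mul] at hzw
    rw [IsLocalization.mk'_eq_iff_eq, IsLocalization.eq_iff_exists q.primeCompl] at hzw
    obtain ⟨u, hu⟩ := hzw
    rw [IsLocalization.mk'_eq_iff_eq, IsLocalization.eq_iff_exists q.primeCompl]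
    exact ⟨u, hb (show b • _ = b • _ by simp only [smul_eq_mul]; linear_combination hu)⟩
  have hbm : algebraMap R Rq b ∈ maximalIdeal Rq := by
    rwa [← Ideal.mem_comap, comap_max]
  have key := Depth.idealDepth_quotSMulTop_add_one (I := maximalIdeal Rq) Rq hbm hbreg
  rw [← depth, ← depth] at key
  have h1 : 1 ≤ depth Rq (QuotSMulTop (algebraMap R Rq b) Rq) := by
    rw [← key, show (2 : ℕ∞) = 1 + 1 from rfl] at hdep'
    exact (ENat.add_le_add_iff_right ENat.one_ne_top).1 hdep'
  haveI : Nontrivial (QuotSMulTop (algebraMap R Rq b) Rq) :=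
    Submodule.Quotient.nontrivial_iff.2 fun h => Submodule.top_ne_pointwise_smul_of_mem_jacobson_annihilator
      (IsLocalRing.maximalIdeal_le_jacobson _ hbm) h.symm
  obtain ⟨r, hr, hreg⟩ := (Depth.one_le_idealDepth_iff Depth.maximalIdeal_smul_top_ne_top).1 h1
  obtain ⟨c, s, rfl⟩ := IsLocalization.exists_mk'_eq q.primeCompl r
  have hc : c ∈ q := by
    rwa [IsLocalization.mk'_mem_iff, ← Ideal.mem_comap, comap_max] at hr
  have hz : IsLocalization.mk' Rq c s • (Submodule.Quotient.mk (algebraMap R Rq y) :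
      QuotSMulTop (algebraMap R Rq b) Rq) = 0 := by
    rw [← Submodule.Quotient.mk_smul, Submodule.Quotient.mk_eq_zero, smul_eq_mul, mul_comm,
      IsLocalization.mul_mk'_eq_mk'_of_mul]
    obtain ⟨d, hd⟩ := Ideal.mem_span_singleton.1 (hy c hc)
    refine ⟨IsLocalization.mk' Rq d s, trivial, ?_⟩
    rw [DistribSMul.toLinearMap_apply, smul_eq_mul, IsLocalization.mul_mk'_eq_mk'_of_mul, ← hd, mul_comm c]
  have h0 := hreg (hz.trans (smul_zero _).symm)
  rw [Submodule.Quotient.mk_eq_zero] at h0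
  obtain ⟨w, -, hw⟩ := h0
  obtain ⟨d, t, rfl⟩ := IsLocalization.exists_mk'_eq q.primeCompl w
  rw [DistribSMul.toLinearMap_apply, smul_eq_mul, IsLocalization.mul_mk'_eq_mk'_of_mul,
    IsLocalization.mk'_eq_iff_eq_mul, ← map_mul, IsLocalization.eq_iff_exists q.primeCompl] at hw
  obtain ⟨u, hu⟩ := hw
  exact hyb ((u : R) * t) (q.primeCompl.mul_mem u.2 t.2)
    (Ideal.mem_span_singleton.2 ⟨(u : R) * d, by linear_combination -hu⟩)

/-- `a ∈ bR` can be checked at primes of height at most one. -/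
theorem mem_span_of_codim_one (h2 : HasSk 2 R R) {b : R} (hb : IsSMulRegular R b) {a : R}
    (h : ∀ (q : Ideal R) [q.IsPrime], q.height ≤ 1 → ∃ s ∉ q, s * a ∈ Ideal.span {b}) :
    a ∈ Ideal.span {b} := by
  by_contra ha
  obtain ⟨q, hq, hle⟩ := exists_le_isAssociatedPrime_of_isNoetherianRing R
    (Ideal.Quotient.mk (Ideal.span {b}) a) (fun h => ha (Ideal.Quotient.eq_zero_iff_mem.1 h))
  haveI := hq.isPrime
  have hcolon : ∀ r, r * a ∈ Ideal.span {b} → r ∈ q := fun r hr => hle (by
    rw [Submodule.mem_colon_singleton, Submodule.mem_bot, Algebra.smul_def,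
      Ideal.Quotient.algebraMap_eq, ← map_mul, Ideal.Quotient.eq_zero_iff_mem]
    exact hr)
  obtain ⟨-, y, hy⟩ := isAssociatedPrime_iff.1 hq
  obtain ⟨y, rfl⟩ := Ideal.Quotient.mk_surjective y
  have hyq : ∀ r, r ∈ q ↔ r * y ∈ Ideal.span {b} := fun r => by
    rw [hy, Submodule.mem_colon_singleton, Submodule.mem_bot, Algebra.smul_def,
      Ideal.Quotient.algebraMap_eq, ← map_mul, Ideal.Quotient.eq_zero_iff_mem]
  have hbq : b ∈ q := hcolon b (Ideal.mul_mem_right _ _ (Ideal.subset_span rfl))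
  obtain ⟨s, hs, hsa⟩ := h q (height_le_one_of_mem_associatedPrimes h2 hb hbq
    (fun s hs hsy => hs ((hyq s).2 hsy)) fun r hr => (hyq r).1 hr)
  exact hs (hcolon s hsa)

/-- An element avoiding some minimal primes and lying in all others. -/
theorem exists_mem_minimalPrimes_iff (S : Set (Ideal R)) :
    ∃ d : R, ∀ Q ∈ minimalPrimes R, (d ∈ Q ↔ Q ∈ S) := by
  classical
  have hfin : (minimalPrimes R).Finite := minimalPrimes.finite_of_isNoetherianRing R
  let A := hfin.toFinset.filter fun Q => Q ∈ S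
  let B := hfin.toFinset.filter fun Q => Q ∉ S
  have hnot : ¬ ((A.inf id : Ideal R) : Set R) ⊆ ⋃ Q ∈ (↑B : Set (Ideal R)), (Q : Set R) := by
    intro h
    obtain ⟨Q, hQ, hle⟩ := (Ideal.subset_union_prime (f := id) ⊥ ⊥ (fun Q hQ _ _ => by
      simp only [B, Finset.mem_filter, Set.Finite.mem_toFinset] at hQ
      exact hQ.1.1.1)).1 h
    simp only [B, Finset.mem_filter, Set.Finite.mem_toFinset] at hQ
    haveI := hQ.1.1.1
    obtain ⟨P, hP, hPQ⟩ := (Ideal.IsPrime.inf_le' (inferInstance : Q.IsPrime)).1 hle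
    simp only [A, Finset.mem_filter, Set.Finite.mem_toFinset] at hP
    exact hQ.2 (le_antisymm hPQ (hQ.1.2 hP.1.1 hPQ) ▸ hP.2)
  obtain ⟨d, hdA, hdB⟩ := Set.not_subset.1 hnot
  refine ⟨d, fun Q hQ => ⟨fun hd => ?_, fun hS => ?_⟩⟩
  · by_contra hS
    exact hdB (Set.mem_biUnion (x := Q) (Finset.mem_coe.2 (Finset.mem_filter.2 ⟨hfin.mem_toFinset.2 hQ, hS⟩)) hd)
  · exact (Finset.inf_le (f := id) (Finset.mem_filter.2 ⟨hfin.mem_toFinset.2 hQ, hS⟩ : Q ∈ A)) hdA

theorem isSMulRegular_of_not_mem_minimalPrimes [IsReduced R] {b : R}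
    (hb : ∀ Q ∈ minimalPrimes R, b ∉ Q) : IsSMulRegular R b := by
  rw [isSMulRegular_iff_right_eq_zero_of_smul]
  intro x hx
  refine IsReduced.eq_zero x (mem_nilradical.1 ?_)
  rw [nilradical_eq_sInf, Submodule.mem_sInf]
  intro (P : Ideal R) (hP : Ideal.IsPrime P)
  obtain ⟨Q, hQ, hQP⟩ := Ideal.exists_minimalPrimes_le (I := ⊥) (J := P) bot_le
  exact hQP ((hQ.1.1.mem_or_mem (show b * x ∈ Q by rw [← smul_eq_mul, hx]; exact zero_mem _)).resolve_left (hb Q hQ))

theorem isDomain_isIntegrallyClosed_of_R1_S2 (h1 : HasRk 1 R) (h2 : HasSk 2 R R) (p : Ideal R) [p.IsPrime] :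
    IsDomain (Localization.AtPrime p) ∧ IsIntegrallyClosed (Localization.AtPrime p) := by
  haveI : IsReduced R := isReduced_iff.2 ⟨hasRk_mono zero_le_one h1, hasSk_mono one_le_two h2⟩
  have hloc : ∀ (q : Ideal R) [q.IsPrime], q.height ≤ 1 →
      IsDomain (Localization.AtPrime q) ∧ IsIntegrallyClosed (Localization.AtPrime q) := by
    intro q _ hq
    haveI := h1 q hq
    haveI : IsDomain (Localization.AtPrime q) := CAlgReg.isDomain (R := Localization.AtPrime q)
    refine ⟨inferInstance, isIntegrallyClosed_of_regular_dim_le_one _ ?_⟩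
    rw [IsLocalization.AtPrime.ringKrullDim_eq_height q]
    exact_mod_cast hq
  obtain ⟨P1, hP1, hP1p⟩ := Ideal.exists_minimalPrimes_le (I := ⊥) (J := p) bot_le
  have huniq : ∀ P2 ∈ minimalPrimes R, P2 ≤ p → P2 = P1 := by
    intro P2 hP2 hP2p
    by_contra hne
    obtain ⟨a, ha⟩ := exists_mem_minimalPrimes_iff ({P1} : Set (Ideal R))
    obtain ⟨c, hc⟩ := exists_mem_minimalPrimes_iff ({P1}ᶜ : Set (Ideal R))
    have hac : a * c = 0 := by
      refine IsReduced.eq_zero _ (mem_nilradical.1 ?_)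
      rw [nilradical_eq_sInf, Submodule.mem_sInf]
      intro (P : Ideal R) (hP : Ideal.IsPrime P)
      obtain ⟨Q, hQ, hQP⟩ := Ideal.exists_minimalPrimes_le (I := ⊥) (J := P) bot_le
      refine hQP ?_
      by_cases h : Q = P1
      · exact Q.mul_mem_right _ ((ha Q hQ).2 h)
      · exact Q.mul_mem_left _ ((hc Q hQ).2 h)
    have hb : IsSMulRegular R (a + c) := isSMulRegular_of_not_mem_minimalPrimes fun Q hQ hmem => by
      by_cases h : Q = P1
      · exact (hc Q hQ).1 ((Ideal.add_mem_iff_right _ ((ha Q hQ).2 h)).1 hmem) h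
      · exact h ((ha Q hQ).1 ((Ideal.add_mem_iff_left _ ((hc Q hQ).2 h)).1 hmem))
    have hmem : a ∈ Ideal.span {a + c} := mem_span_of_codim_one h2 hb fun q _ hq => by
      obtain ⟨hd, -⟩ := hloc q hq
      haveI := hd
      have : algebraMap R (Localization.AtPrime q) a = 0 ∨ algebraMap R (Localization.AtPrime q) c = 0 := by
        rw [← mul_eq_zero, ← map_mul, hac, map_zero]
      rcases this with h | h <;> obtain ⟨s, hs⟩ := (IsLocalization.map_eq_zero_iff q.primeCompl _ _).1 h
      · exact ⟨s, s.2, by rw [hs]; exact zero_mem _⟩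
      · exact ⟨s, s.2, Ideal.mem_span_singleton.2 ⟨s, by linear_combination (-1 : R) * hs⟩⟩
    obtain ⟨t, ht⟩ := Ideal.mem_span_singleton.1 hmem
    have hct : c = (a + c) * (1 - t) := by linear_combination (-1 : R) * ht
    have ht2 : t * (1 - t) = 0 :=
      isSMulRegular_iff_right_eq_zero_of_smul.1 hb _ (isSMulRegular_iff_right_eq_zero_of_smul.1 hb _ (show (a + c) • ((a + c) • (t * (1 - t))) = 0 by
        simp only [smul_eq_mul]
        calc (a + c) * ((a + c) * (t * (1 - t))) = ((a + c) * t) * ((a + c) * (1 - t)) := by ring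
          _ = 0 := by rw [← ht, ← hct, hac]))
    by_cases htp : t ∈ p
    · have h1t : 1 - t ∉ p := fun h => (inferInstance : p.IsPrime).ne_top
        ((Ideal.eq_top_iff_one _).2 (by simpa using add_mem h htp))
      have : t ∈ P2 := ((hP2.1.1.mem_or_mem (show t * (1 - t) ∈ P2 by rw [ht2]; exact zero_mem _))).resolve_right
        fun h => h1t (hP2p h)
      exact hne ((ha P2 hP2).1 (ht ▸ P2.mul_mem_left _ this))
    · have : 1 - t ∈ P1 := ((hP1.1.1.mem_or_mem (show t * (1 - t) ∈ P1 by rw [ht2]; exact zero_mem _))).resolve_left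
        fun h => htp (hP1p h)
      exact (hc P1 hP1).1 (hct ▸ P1.mul_mem_left _ this) rfl
  haveI := hP1.1.1
  let L := Localization.AtPrime p
  have hzero : ∀ x : R, algebraMap R L x = 0 ↔ x ∈ P1 := by
    refine fun x => ⟨fun h => ?_, fun h => ?_⟩
    · obtain ⟨s, hs⟩ := (IsLocalization.map_eq_zero_iff p.primeCompl _ _).1 h
      exact (hP1.1.1.mem_or_mem (show (s : R) * x ∈ P1 by rw [hs]; exact zero_mem _)).resolve_left
        fun h => s.2 (hP1p h)
    · haveI : IsReduced L := isReduced_localizationPreserves p.primeCompl _ inferInstance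
      refine IsReduced.eq_zero _ (mem_nilradical.1 ?_)
      rw [nilradical_eq_sInf, Submodule.mem_sInf]
      intro (P : Ideal L) (hP : Ideal.IsPrime P)
      obtain ⟨Q, hQ, hQP⟩ := Ideal.exists_minimalPrimes_le (I := ⊥) (J := P.comap (algebraMap R L)) bot_le
      have hQp : Q ≤ p := hQP.trans (by
        conv_rhs => rw [← comap_max p]
        exact Ideal.comap_mono (le_maximalIdeal hP.ne_top))
      rw [huniq Q hQ hQp] at hQP
      exact hQP h
  haveI : Nontrivial L := inferInstance
  haveI hdom : NoZeroDivisors L := ⟨fun {x y} hxy => by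
    obtain ⟨c, s, rfl⟩ := IsLocalization.exists_mk'_eq p.primeCompl x
    obtain ⟨d, t, rfl⟩ := IsLocalization.exists_mk'_eq p.primeCompl y
    rw [← IsLocalization.mk'_mul, IsLocalization.mk'_eq_zero_iff] at hxy
    obtain ⟨u, hu⟩ := hxy
    have : c * d ∈ P1 := (hP1.1.1.mem_or_mem (show (u : R) * (c * d) ∈ P1 by rw [hu]; exact zero_mem _)).resolve_left
      fun h => u.2 (hP1p h)
    rcases hP1.1.1.mem_or_mem this with h | h
    · left; rw [IsLocalization.mk'_eq_mul_mk'_one, (hzero c).2 h, zero_mul]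
    · right; rw [IsLocalization.mk'_eq_mul_mk'_one, (hzero d).2 h, zero_mul]⟩
  haveI : IsDomain L := NoZeroDivisors.to_isDomain _
  refine ⟨inferInstance, (isIntegrallyClosed_iff (FractionRing L)).2 fun {x} hx => ?_⟩
  obtain ⟨a', b', hb', rfl⟩ := IsFractionRing.div_surjective (A := L) x
  obtain ⟨a₀, s, rfl⟩ := IsLocalization.exists_mk'_eq p.primeCompl a'
  obtain ⟨b₀, t, rfl⟩ := IsLocalization.exists_mk'_eq p.primeCompl b'
  have hb₀ : b₀ ∉ P1 := fun h => nonZeroDivisors.ne_zero hb'
    (by rw [IsLocalization.mk'_eq_mul_mk'_one, (hzero b₀).2 h, zero_mul])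
  obtain ⟨d, hd⟩ := exists_mem_minimalPrimes_iff {Q : Ideal R | b₀ ∉ Q}
  let b := b₀ + d
  have hbreg : IsSMulRegular R b := isSMulRegular_of_not_mem_minimalPrimes fun Q hQ hmem => by
    by_cases h : b₀ ∈ Q
    · exact (hd Q hQ).1 ((Ideal.add_mem_iff_right _ h).1 hmem) h
    · exact h ((Ideal.add_mem_iff_left _ ((hd Q hQ).2 h)).1 hmem)
  have hbL : algebraMap R L b = algebraMap R L b₀ := by
    rw [map_add, (hzero d).2 ((hd P1 hP1).2 hb₀), add_zero]
  have hbne : algebraMap R L b ≠ 0 := fun h => hb₀ ((hzero b₀).1 (hbL ▸ h))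
  let a := a₀ * t
  let K := FractionRing L
  have hu : ∀ r : p.primeCompl, IsUnit (algebraMap R K r) := fun r => by
    rw [IsScalarTower.algebraMap_apply R L K]
    exact (IsLocalization.map_units L r).map _
  have hxab : algebraMap L K (IsLocalization.mk' L a₀ s) / algebraMap L K (IsLocalization.mk' L b₀ t)
      = algebraMap R K a / (algebraMap R K b * algebraMap R K s) := by
    have hB : algebraMap R K b = algebraMap L K (IsLocalization.mk' L b₀ t) * algebraMap R K t := by
      rw [IsScalarTower.algebraMap_apply R L K b, hbL, IsScalarTower.algebraMap_apply R L K (t : R),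
        ← map_mul, IsLocalization.mk'_spec]
    have hA : algebraMap R K a₀ = algebraMap L K (IsLocalization.mk' L a₀ s) * algebraMap R K s := by
      rw [IsScalarTower.algebraMap_apply R L K a₀, IsScalarTower.algebraMap_apply R L K (s : R),
        ← map_mul, IsLocalization.mk'_spec]
    rw [show algebraMap R K a = algebraMap R K a₀ * algebraMap R K t from map_mul _ _ _, hA, hB]
    rw [mul_assoc _ (algebraMap R K s), mul_assoc _ (algebraMap R K t) (algebraMap R K s),
      mul_comm (algebraMap R K t) (algebraMap R K s),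
      mul_div_mul_right _ _ (mul_ne_zero (hu s).ne_zero (hu t).ne_zero)]
  rw [hxab] at hx ⊢
  have hbK : algebraMap R K b ≠ 0 := by
    rw [IsScalarTower.algebraMap_apply R L K]
    exact fun h => hbne (IsFractionRing.injective L K (h.trans (map_zero _).symm))
  have hy : IsIntegral L (algebraMap R K a / algebraMap R K b) := by
    have h := hx.mul (isIntegral_algebraMap (R := L) (A := K) (x := algebraMap R L s))
    rw [← IsScalarTower.algebraMap_apply R L K] at h
    rwa [div_mul_eq_mul_div, mul_div_mul_right _ _ (hu s).ne_zero] at h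
  obtain ⟨m, hm⟩ := IsIntegral.exists_multiple_integral_of_isLocalization p.primeCompl _ hy
  obtain ⟨P, hP, hPm⟩ := hm
  have hrel : (P.scaleRoots b).eval₂ (algebraMap R L) (algebraMap R L ((m : R) * a)) = 0 := by
    refine IsFractionRing.injective L K ?_
    rw [Polynomial.hom_eval₂, ← IsScalarTower.algebraMap_eq, map_zero, ← IsScalarTower.algebraMap_apply,
      show algebraMap R K ((m : R) * a) = algebraMap R K b * (algebraMap R K m * (algebraMap R K a / algebraMap R K b)) by
        rw [map_mul, mul_left_comm, mul_div_cancel₀ _ hbK],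
      scaleRoots_eval₂_mul]
    rw [show algebraMap R K m * (algebraMap R K a / algebraMap R K b) =
      m • (algebraMap R K a / algebraMap R K b) by rw [Submonoid.smul_def, Algebra.smul_def], hPm, mul_zero]
  rw [Polynomial.eval₂_at_apply, hzero] at hrel
  obtain ⟨u, hu0⟩ := (IsLocalization.map_eq_zero_iff p.primeCompl L _).1 ((hzero _).2 hrel)
  rcases eq_or_ne P.natDegree 0 with hP0 | hP0
  · exfalso
    rw [hP.natDegree_eq_zero] at hP0
    rw [hP0, Polynomial.eval₂_one] at hPm
    exact one_ne_zero hPm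
  have hrel' : ((P.scaleRoots u).scaleRoots b).eval ((u : R) * ((m : R) * a)) = 0 := by
    rw [← scaleRoots_mul, mul_comm (u : R) b, scaleRoots_mul, scaleRoots_eval_mul,
      natDegree_scaleRoots]
    obtain ⟨k, hk⟩ := Nat.exists_eq_succ_of_ne_zero hP0
    rw [hk, pow_succ, mul_assoc, hu0, mul_zero]
  have hmem : (u : R) * ((m : R) * a) ∈ Ideal.span {b} := mem_span_of_codim_one h2 hbreg fun q _ hq => by
    obtain ⟨hd, hc⟩ := hloc q hq
    haveI := hd
    haveI := hc
    have hbq : algebraMap R (Localization.AtPrime q) b ≠ 0 := fun h => by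
      obtain ⟨w, hw⟩ := (IsLocalization.map_eq_zero_iff q.primeCompl _ _).1 h
      exact w.2 (by rw [isSMulRegular_iff_right_eq_zero_of_smul.1 hbreg _ (show b • (w : R) = 0 by rw [smul_eq_mul, mul_comm]; exact hw)]; exact zero_mem _)
    have hP' : (P.scaleRoots u).Monic := (monic_scaleRoots_iff _).2 hP
    have hdvd := dvd_of_scaleRoots hbq (hP'.map (algebraMap R (Localization.AtPrime q)))
      (a := algebraMap R (Localization.AtPrime q) ((u : R) * ((m : R) * a))) (by
        rw [← map_scaleRoots _ _ _ (by rw [hP'.leadingCoeff, map_one]; exact one_ne_zero),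
          Polynomial.eval_map, Polynomial.eval₂_at_apply, hrel', map_zero])
    obtain ⟨z, hz⟩ := hdvd
    obtain ⟨e, w, rfl⟩ := IsLocalization.exists_mk'_eq q.primeCompl z
    rw [IsLocalization.mul_mk'_eq_mk'_of_mul, eq_comm, IsLocalization.mk'_eq_iff_eq_mul, ← map_mul,
      IsLocalization.eq_iff_exists q.primeCompl] at hz
    obtain ⟨v, hv⟩ := hz
    exact ⟨(v : R) * w, q.primeCompl.mul_mem v.2 w.2,
      Ideal.mem_span_singleton.2 ⟨(v : R) * e, by linear_combination -hv⟩⟩
  obtain ⟨e, he⟩ := Ideal.mem_span_singleton.1 hmem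
  refine ⟨IsLocalization.mk' L e (u * m * s), ?_⟩
  have hspec : algebraMap L K (IsLocalization.mk' L e (u * m * s)) * algebraMap R K ((u * m * s : p.primeCompl) : R)
      = algebraMap R K e := by
    rw [IsScalarTower.algebraMap_apply R L K e, IsScalarTower.algebraMap_apply R L K
      ((u * m * s : p.primeCompl) : R), ← map_mul, IsLocalization.mk'_spec]
  have he' := congrArg (algebraMap R K) he
  simp only [map_mul, Submonoid.coe_mul] at he' hspec
  rw [eq_div_iff (mul_ne_zero hbK (hu s).ne_zero)]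
  refine mul_left_cancel₀ (mul_ne_zero (hu u).ne_zero (hu m).ne_zero) ?_
  linear_combination (algebraMap R K b) * hspec - he'

end Groth.Agent.CAlgSerre
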