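import Mathlib
import Groth.Agent.CAlgSerre.Normal

/-!
Normal rings satisfy `(R₁)` and `(S₂)`.
-/

namespace Groth.Agent.CAlgSerre

universe u

open IsLocalRing LocCoh

theorem isRegularLocalRing_of_normal_dim_le_one (L : Type u) [CommRing L] [IsDomain L] [IsLocalRing L]
    [IsNoetherianRing L] [IsIntegrallyClosed L] (h : ringKrullDim L ≤ 1) : IsRegularLocalRing L := by
  haveI : Ring.KrullDimLE 1 L := (Ring.krullDimLE_iff (n := 1)).2 (by exact_mod_cast h)
  haveI : Ring.DimensionLEOne L := ⟨fun {q} hq0 hq => ((Ring.krullDimLE_one_iff_of_isPrime_bot.1 ‹_›) q hq0 hq)⟩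
  by_cases hf : IsField L
  · letI := hf.toField; infer_instance
  · haveI : IsDedekindDomain L := { }
    have hd : IsDiscreteValuationRing L := ((IsDiscreteValuationRing.TFAE L hf).out 2 0).1 ‹IsDedekindDomain L›
    infer_instance

theorem one_le_depth {L : Type u} [CommRing L] [IsDomain L] [IsLocalRing L] [IsNoetherianRing L]
    (hf : ¬ IsField L) : 1 ≤ depth L L := by
  obtain ⟨x, hx, hx0⟩ := Submodule.exists_mem_ne_zero_of_ne_bot (mt isField_iff_maximalIdeal_eq.2 hf)
  exact (Depth.one_le_idealDepth_iff Depth.maximalIdeal_smul_top_ne_top).2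
    ⟨x, hx, fun a b h => mul_left_cancel₀ hx0 h⟩

theorem two_le_depth {L : Type u} [CommRing L] [IsDomain L] [IsLocalRing L] [IsNoetherianRing L]
    [IsIntegrallyClosed L] (h : 2 ≤ ringKrullDim L) : 2 ≤ depth L L := by
  have hf : ¬ IsField L := fun hf => by
    rw [ringKrullDim_eq_zero_of_isField hf] at h
    exact absurd h (by decide)
  obtain ⟨x, hx, hx0⟩ := Submodule.exists_mem_ne_zero_of_ne_bot (mt isField_iff_maximalIdeal_eq.2 hf)
  have hreg : IsSMulRegular L x := fun a b h => mul_left_cancel₀ hx0 h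
  have key := Depth.idealDepth_quotSMulTop_add_one (I := maximalIdeal L) L hx hreg
  rw [← depth, ← depth] at key
  haveI : Nontrivial (QuotSMulTop x L) :=
    Submodule.Quotient.nontrivial_iff.2 fun h => Submodule.top_ne_pointwise_smul_of_mem_jacobson_annihilator
      (IsLocalRing.maximalIdeal_le_jacobson _ hx) h.symm
  rw [← key, show (2 : ℕ∞) = 1 + 1 from rfl]
  refine add_le_add ?_ le_rfl
  rw [Order.one_le_iff_ne_zero]
  intro h0
  obtain ⟨-, z, hz⟩ := isAssociatedPrime_iff.1 (Depth.depth_eq_zero_iff.1 h0)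
  obtain ⟨y, rfl⟩ := Submodule.Quotient.mk_surjective _ z
  have hy : ∀ r, r ∈ maximalIdeal L ↔ x ∣ r * y := fun r => by
    rw [hz, Submodule.mem_colon_singleton, Submodule.mem_bot, ← Submodule.Quotient.mk_smul,
      Submodule.Quotient.mk_eq_zero, Submodule.mem_smul_pointwise_iff_exists, smul_eq_mul]
    exact ⟨fun ⟨b, _, hb⟩ => ⟨b, by rw [← hb, smul_eq_mul]⟩, fun ⟨b, hb⟩ => ⟨b, trivial, by rw [smul_eq_mul, hb]⟩⟩
  let K := FractionRing L
  have hx' : algebraMap L K x ≠ 0 := fun h => hx0 (IsFractionRing.injective L K (h.trans (map_zero _).symm))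
  by_cases hu : ∃ t ∈ maximalIdeal L, ∃ u : Lˣ, t * y = x * u
  · obtain ⟨t, ht, u, htu⟩ := hu
    have hy0 : y ≠ 0 := fun h => by
      rw [h, mul_zero, eq_comm, mul_eq_zero] at htu
      exact htu.elim hx0 u.ne_zero
    have hle : maximalIdeal L ≤ Ideal.span {t} := fun s hs => by
      obtain ⟨c, hc⟩ := (hy s).1 hs
      refine Ideal.mem_span_singleton.2 ⟨c * (↑u⁻¹ : L), mul_right_cancel₀ hy0 ?_⟩
      rw [hc, mul_right_comm t, htu]
      rw [mul_assoc x, mul_comm c, ← mul_assoc (u : L), Units.mul_inv, one_mul]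
    have hm : maximalIdeal L = Ideal.span {t} :=
      le_antisymm hle ((Ideal.span_singleton_le_iff_mem _).2 ht)
    have h1 := h.trans (ringKrullDim_le_spanFinrank_maximalIdeal L)
    rw [hm] at h1
    have h2 : (Ideal.span {t}).spanFinrank ≤ 1 :=
      (Submodule.spanFinrank_span_le_ncard_of_finite (Set.finite_singleton t)).trans (Set.ncard_singleton t).le
    have h3 : 2 ≤ (Ideal.span {t}).spanFinrank := by exact_mod_cast h1
    omega
  · push Not at hu
    let z : K := algebraMap L K y / algebraMap L K x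
    have hint : IsIntegral L z := by
      let N : Submodule L K := Submodule.map (Algebra.linearMap L K) (maximalIdeal L)
      refine isIntegral_of_smul_mem_submodule N ?_
        (Submodule.FG.map _ (maximalIdeal L).fg_of_isNoetherianRing) z ?_
      · intro hb
        exact hx' (by
          have : algebraMap L K x ∈ Submodule.map (Algebra.linearMap L K) (maximalIdeal L) :=
            Submodule.mem_map_of_mem hx
          rwa [show Submodule.map (Algebra.linearMap L K) (maximalIdeal L) = ⊥ from hb, Submodule.mem_bot] at this)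
      · rintro _ ⟨s, hs, rfl⟩
        obtain ⟨c, hc⟩ := (hy s).1 hs
        refine ⟨c, ?_, ?_⟩
        · by_contra hcm
          obtain ⟨v, hv⟩ := IsLocalRing.notMem_maximalIdeal.1 hcm
          exact hu s hs v (by rw [hc, hv])
        · rw [Algebra.linearMap_apply, Algebra.linearMap_apply, smul_eq_mul, div_mul_eq_mul_div,
            eq_div_iff hx', ← map_mul, ← map_mul, mul_comm c, mul_comm y, hc]
    obtain ⟨c, hc⟩ := IsIntegrallyClosed.isIntegral_iff.1 hint
    have hyx : y = x * c := IsFractionRing.injective L K (by rw [map_mul, hc, mul_div_cancel₀ _ hx'])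
    exact (maximalIdeal.isMaximal L).ne_top ((Ideal.eq_top_iff_one _).2 ((hy 1).2 ⟨c, by rw [one_mul, hyx]⟩))

variable {R : Type u} [CommRing R] [IsNoetherianRing R]

theorem normal_iff :
    (∀ (p : Ideal R) [p.IsPrime], IsDomain (Localization.AtPrime p) ∧
      IsIntegrallyClosed (Localization.AtPrime p)) ↔ HasRk 1 R ∧ HasSk 2 R R := by
  refine ⟨fun h => ⟨fun p _ hp => ?_, fun p _ => ?_⟩, fun h p _ => isDomain_isIntegrallyClosed_of_R1_S2 h.1 h.2 p⟩
  all_goals
    haveI := (h p).1
    haveI := (h p).2
    haveI : IsNoetherianRing (Localization.AtPrime p) :=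
      IsLocalization.isNoetherianRing p.primeCompl _ inferInstance
  · refine isRegularLocalRing_of_normal_dim_le_one _ ?_
    rw [IsLocalization.AtPrime.ringKrullDim_eq_height p]
    exact_mod_cast hp
  · rw [Depth.supportDim_localizedSelf, Depth.depth_congr (Depth.localizedSelfEquiv p.primeCompl)]
    rcases le_or_gt p.height 1 with h1 | h1
    · refine (min_le_right _ _).trans ?_
      rcases eq_or_ne p.height 0 with h0 | h0
      · rw [h0]; exact WithBot.coe_le_coe.2 bot_le
      · refine WithBot.coe_le_coe.2 (h1.trans (one_le_depth fun hf => h0 ?_))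
        have := IsLocalization.AtPrime.ringKrullDim_eq_height p (Localization.AtPrime p)
        rw [ringKrullDim_eq_zero_of_isField hf] at this
        exact (WithBot.coe_eq_coe.1 this).symm
    · refine (min_le_left _ _).trans (WithBot.coe_le_coe.2 (two_le_depth ?_))
      rw [IsLocalization.AtPrime.ringKrullDim_eq_height p]
      exact WithBot.coe_le_coe.2 (Order.add_one_le_of_lt h1)

end Groth.Agent.CAlgSerre
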